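import Cfsg.Agent.H613.KKL.Defs
import Cfsg.Agent.Lib.GenFitting

/-!
# S4546, B7: group theory of the minimal counterexample (helper527)
-/

set_option autoImplicit false

namespace Cfsg.Agent.H527.KKL

open Cfsg Cfsg.Agent.H613.KKL Subgroup
open Cfsg.Agent.SignalizersComponents.Components

universe u

section

variable {G : Type u} [Group G] [Finite G] {D : Subgroup G} {y : G}

theorem not_le_center (h8 : E8 D) (hy : Seven D y) {R : Subgroup G} (hR : R ≤ D) (hc : R ≤ center G) : R = ⊥ := by
  rw [eq_bot_iff]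
  intro r hr
  by_contra hr1
  have hall : ∀ b ∈ D, b ≠ 1 → b = r := by
    intro b hb hb1
    obtain ⟨k, hk⟩ := hy.trans r (hR hr) hr1 b hb hb1
    have h1 : y ^ k * r = r * y ^ k := (mem_center_iff.1 (hc hr) (y ^ k))
    rw [h1, mul_inv_cancel_right] at hk
    exact hk.symm
  have h2 : Nat.card D ≤ 2 := by
    have h3 : (D : Set G) ⊆ ({1, r} : Set G) := by
      intro b hb
      by_cases h : b = 1
      · simp [h]
      · simp [hall b hb h]
    have h4 : (D : Set G).ncard ≤ ({1, r} : Set G).ncard := Set.ncard_le_ncard h3 (Set.toFinite _)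
    have h5 : ({1, r} : Set G).ncard ≤ 2 := Set.ncard_insert_le _ _ |>.trans (by simp)
    rw [← Nat.card_coe_set_eq] at h4
    exact h4.trans h5
  have := h8.card
  omega

/-- normal 2-subgroups are trivial -/
theorem normal_two_trivial (h8 : E8 D) (hy : Seven D y)
    (hN : ∀ N : Subgroup G, N.Normal → N ≤ Subgroup.center G ∨ D ≤ N) (hDn : ¬ D.Normal)
    (hrad : ∀ N : Subgroup G, N.Normal → IsPGroup 2 N → N ≤ D) {R : Subgroup G} (hR : R.Normal) (h2 : IsPGroup 2 R) :
    R = ⊥ := by
  have h1 := hrad R hR h2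
  rcases hN R hR with h | h
  · exact not_le_center h8 hy h1 h
  · exact absurd (le_antisymm h h1 ▸ hR) hDn

omit [Finite G] in
/-- commuting subgroups normalise each other -/
theorem le_normalizer_of_comm {K L : Subgroup G} (hKL : ∀ k ∈ K, ∀ l ∈ L, k * l = l * k) :
    K ≤ normalizer (L : Set G) := by
  intro k hk
  rw [mem_normalizer_iff]
  intro l
  constructor
  · intro hl
    rw [hKL k hk l hl, mul_inv_cancel_right]
    exact hl
  · intro hl
    have h1 := hKL k hk _ hl
    have h4 : k * (k * l * k⁻¹) = k * l := by rw [h1, inv_mul_cancel_right]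
    rw [mul_left_cancel h4] at hl
    exact hl

/-- splitting of an involution in a central product with odd intersection -/
theorem split_inv {K L : Subgroup G} (hKL : ∀ k ∈ K, ∀ l ∈ L, k * l = l * k)
    (hodd : ∀ z ∈ K, z ∈ L → z * z = 1 → z = 1) {d : G} (hd : d ∈ K ⊔ L) (hd2 : d * d = 1) :
    ∃ k ∈ K, ∃ l ∈ L, k * l = d ∧ k * k = 1 ∧ l * l = 1 := by
  have hdm : d ∈ ((K ⊔ L : Subgroup G) : Set G) := hd
  rw [coe_mul_of_left_le_normalizer_right _ _ (le_normalizer_of_comm hKL)] at hdm
  obtain ⟨k, hk, l, hl, hkl⟩ := Set.mem_mul.1 hdm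
  have hc : Commute k l := hKL k hk l hl
  have h1 : (k * k) * (l * l) = 1 := by
    rw [← hd2, ← hkl]
    exact hc.mul_mul_mul_comm k l
  have hzK : k * k ∈ K := K.mul_mem hk hk
  have hzL : k * k ∈ L := by
    rw [mul_eq_one_iff_eq_inv] at h1
    rw [h1]
    exact L.inv_mem (L.mul_mem hl hl)
  have hzo : Odd (orderOf (k * k)) := by
    rw [← Nat.not_even_iff_odd]
    intro he
    obtain ⟨m, hm⟩ := he
    have hm0 : 0 < orderOf (k * k) := orderOf_pos _
    have h2 : (k * k) ^ m = 1 := by
      apply hodd _ (K.pow_mem hzK m) (L.pow_mem hzL m)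
      rw [← pow_add, ← hm, pow_orderOf_eq_one]
    have h3 := orderOf_dvd_of_pow_eq_one h2
    have h4 := Nat.le_of_dvd (by omega) h3
    omega
  obtain ⟨m, hm⟩ := hzo
  set w := (k * k) ^ (m + 1) with hw
  have hw2 : w * w = k * k := by
    rw [hw, ← pow_add, show m + 1 + (m + 1) = orderOf (k * k) + 1 by omega, pow_succ, pow_orderOf_eq_one, one_mul]
  have hwK : w ∈ K := K.pow_mem hzK _
  have hwL : w ∈ L := L.pow_mem hzL _
  have hwk : w * k = k * w := (hKL k hk w hwL).symm
  have hwl : w * l = l * w := hKL w hwK l hl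
  refine ⟨k * w⁻¹, K.mul_mem hk (K.inv_mem hwK), w * l, L.mul_mem hwL hl, ?_, ?_, ?_⟩
  · rw [mul_assoc, inv_mul_cancel_left, hkl]
  · have h5 : Commute k w⁻¹ := (Commute.inv_right (show Commute k w from hwk.symm))
    calc k * w⁻¹ * (k * w⁻¹) = (k * k) * (w⁻¹ * w⁻¹) := by
          rw [mul_assoc, ← mul_assoc w⁻¹ k, ← h5.eq, mul_assoc k w⁻¹, ← mul_assoc]
      _ = 1 := by rw [← mul_inv_rev, hw2, mul_inv_cancel]
  · calc w * l * (w * l) = (w * w) * (l * l) := by
          rw [mul_assoc, ← mul_assoc l w, ← hwl, mul_assoc w l, ← mul_assoc]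
      _ = 1 := by rw [hw2, h1]

/-- the parts of a commuting involution commute with everything commuting with it -/
theorem comm_of_split {K L : Subgroup G} (hKL : ∀ k ∈ K, ∀ l ∈ L, k * l = l * k)
    (hodd : ∀ z ∈ K, z ∈ L → z * z = 1 → z = 1) {k l u : G} (hk : k ∈ K) (hl : l ∈ L) (hk2 : k * k = 1)
    (hu : u ∈ K ⊔ L) (hcu : k * l * u = u * (k * l)) : k * u = u * k := by
  have hum : u ∈ ((K ⊔ L : Subgroup G) : Set G) := hu
  rw [coe_mul_of_left_le_normalizer_right _ _ (le_normalizer_of_comm hKL)] at hum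
  obtain ⟨a, ha, b, hb, rfl⟩ := Set.mem_mul.1 hum
  have hkb : Commute k b := hKL k hk b hb
  have hal : Commute a l := hKL a ha l hl
  have h2 : k * a * (l * b) = a * k * (b * l) := by
    calc k * a * (l * b) = k * l * (a * b) := by
          rw [mul_assoc, ← mul_assoc a l, hal.eq, mul_assoc l a, ← mul_assoc]
      _ = a * b * (k * l) := hcu
      _ = a * k * (b * l) := by
          rw [mul_assoc, ← mul_assoc b k, ← hkb.eq, mul_assoc k b, ← mul_assoc]
  have h4 : (a * k)⁻¹ * (k * a) = (b * l) * (l * b)⁻¹ := by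
    rw [inv_mul_eq_iff_eq_mul, ← mul_assoc, eq_mul_inv_iff_mul_eq, h2]
  have hzK : (a * k)⁻¹ * (k * a) ∈ K := K.mul_mem (K.inv_mem (K.mul_mem ha hk)) (K.mul_mem hk ha)
  have hzL : (a * k)⁻¹ * (k * a) ∈ L := by
    rw [h4]
    exact L.mul_mem (L.mul_mem hb hl) (L.inv_mem (L.mul_mem hl hb))
  set z := (a * k)⁻¹ * (k * a) with hz
  have hka : k * a = a * k * z := by rw [hz, mul_inv_cancel_left]
  have hzk : k * z = z * k := hKL k hk z hzL
  have hz2 : z * z = 1 := by
    have h5 : a = a * (z * z) := by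
      calc a = k * (k * a) := by rw [← mul_assoc, hk2, one_mul]
        _ = k * (a * k * z) := by rw [hka]
        _ = k * a * (k * z) := by simp only [mul_assoc]
        _ = a * k * z * (k * z) := by rw [hka]
        _ = a * (z * z) := by
          rw [mul_assoc (a * k), ← mul_assoc z k z, ← hzk, mul_assoc k z z, ← mul_assoc (a * k) k, mul_assoc a k k, hk2,
            mul_one]
    exact (mul_eq_left.1 h5.symm)
  have hz1 := hodd z hzK hzL hz2
  rw [hz1, mul_one] at hka
  rw [← mul_assoc, hka, mul_assoc a k b, hkb.eq, mul_assoc]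

/-- **B7** -/
theorem B7 (D : Subgroup G) (h8 : E8 D) (y : G) (hy : Seven D y)
    (hN : ∀ N : Subgroup G, N.Normal → N ≤ Subgroup.center G ∨ D ≤ N) (hDn : ¬ D.Normal)
    (hrad : ∀ N : Subgroup G, N.Normal → IsPGroup 2 N → N ≤ D)
    (hfr : ∀ N : Subgroup G, N.Normal → D ≤ N → ∀ g : G, ∃ n ∈ N, ∀ d ∈ D, n * (g * d * g⁻¹) * n⁻¹ ∈ D)
    (hx : ∀ N : Subgroup G, N.Normal → D ≤ N → ∃ e ∈ N, Odd (orderOf e) ∧ (∀ d ∈ D, d * e = e * d) ∧
      ∀ Q : Subgroup G, Q ≤ N → IsPGroup 2 Q → (∀ q ∈ Q, q * e = e * q) →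
        ∃ c ∈ N, c * e = e * c ∧ ∀ q ∈ Q, c * q * c⁻¹ ∈ D) :
    ∃ K : Subgroup G, K.Normal ∧ IsQuasisimple ↥K ∧ D ≤ K ∧ Odd (Nat.card ↥(Subgroup.center ↥K)) ∧
      Subgroup.centralizer (K : Set G) ≤ Subgroup.center G := by
  have : Fact (Nat.Prime 2) := ⟨Nat.prime_two⟩
  have hD2 : IsPGroup 2 D := by
    rintro ⟨d, hd⟩
    refine ⟨1, ?_⟩
    apply Subtype.ext
    have := h8.inv d hd
    simp [pow_two, this]
  have hDne : ∃ d ∈ D, d ≠ 1 := by
    by_contra hcon
    push Not at hcon
    have : D = ⊥ := by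
      rw [eq_bot_iff]
      intro d hd
      exact hcon d hd
    have h9 := h8.card
    rw [this] at h9
    simp at h9
  obtain ⟨d₀, hd₀, hd₀1⟩ := hDne
  -- `O_2(G) = 1`
  have hO2 : pCore 2 G = ⊥ := normal_two_trivial h8 hy hN hDn hrad (Cfsg.Agent.Lib.Cores.pCore_normal 2)
    (Cfsg.Agent.Lib.Cores.pCore_isPGroup 2)
  -- 2-elements of the Fitting subgroup are trivial
  have hF : ∀ z ∈ fittingSubgroup G, z * z = 1 → z = 1 := by
    intro z hz hz2
    have h1 : z ∈ pCore 2 G := Cfsg.Agent.Lib.GenFitting.mem_pCore_of_mem_fitting (k := 1) hz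
      (by rw [pow_one, pow_two, hz2])
    rw [hO2] at h1
    exact h1
  have hFn : (fittingSubgroup G).Normal := Cfsg.Agent.Lib.Cores.fittingSubgroup_normal
  have hLn : (layer G).Normal := layer_normal G
  have hFZ : fittingSubgroup G ≤ center G := by
    rcases hN _ hFn with h | h
    · exact h
    · exact absurd (hF d₀ (h hd₀) (h8.inv d₀ hd₀)) hd₀1
  -- the layer is not trivial
  have hE : ∃ K : Subgroup G, IsComponent K := by
    by_contra hcon
    push Not at hcon
    have hl : layer G = ⊥ := by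
      rw [eq_bot_iff, layer_le_iff]
      intro K hK
      exact absurd hK (hcon K)
    have h1 := Cfsg.Agent.Lib.GenFitting.centralizer_genFitting_le (G := G)
    rw [Cfsg.Agent.Lib.GenFitting.genFitting_def, hl, bot_sup_eq] at h1
    have h2 : d₀ ∈ fittingSubgroup G := by
      apply h1
      rw [mem_centralizer_iff]
      intro f hf
      exact (mem_center_iff.1 (hFZ hf) d₀).symm
    exact hd₀1 (hF d₀ h2 (h8.inv d₀ hd₀))
  have hDE : D ≤ layer G := by
    rcases hN _ hLn with h | h
    · exfalso
      obtain ⟨K, hK⟩ := hE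
      apply quasisimple_not_isMulCommutative hK.2
      refine ⟨⟨?_⟩⟩
      rintro ⟨a, ha⟩ ⟨b, hb⟩
      apply Subtype.ext
      exact (mem_center_iff.1 (h (component_le_layer hK hb)) a)
    · exact h
  -- the centre of the layer
  have hZL : ∀ z ∈ layer G, z ∈ centralizer (layer G : Set G) → z * z = 1 → z = 1 := by
    intro z hz1 hz2 hz3
    have hn : (layer G ⊓ centralizer (layer G : Set G)).Normal := inferInstance
    have hnil : Group.IsNilpotent (layer G ⊓ centralizer (layer G : Set G) : Subgroup G) := by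
      have hcomm : IsMulCommutative (layer G ⊓ centralizer (layer G : Set G) : Subgroup G) := by
        refine ⟨⟨?_⟩⟩
        rintro ⟨a, ha⟩ ⟨b, hb⟩
        apply Subtype.ext
        exact mem_centralizer_iff.1 hb.2 a ha.1
      let _ : CommGroup (layer G ⊓ centralizer (layer G : Set G) : Subgroup G) :=
        { mul_comm := fun a b => hcomm.1.1 a b }
      exact CommGroup.isNilpotent
    have h1 : z ∈ fittingSubgroup G := (le_sSup (show _ ∈ {N : Subgroup G | N.Normal ∧ Group.IsNilpotent N} from ⟨hn, hnil⟩))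
      (show z ∈ layer G ⊓ centralizer (layer G : Set G) from ⟨hz1, hz2⟩)
    exact hF z h1 hz3
  -- a component and its centralizer in the layer
  have hsup : ∀ K : Subgroup G, IsComponent K → layer G ≤ K ⊔ (layer G ⊓ centralizer (K : Set G)) := by
    intro K hK
    rw [layer_le_iff]
    intro L hL
    by_cases h : L = K
    · rw [h]; exact le_sup_left
    · exact le_sup_of_le_right (le_inf (component_le_layer hL) (component_le_centralizer_of_ne hL hK h))
  have hcommK : ∀ K : Subgroup G, ∀ k ∈ K, ∀ l ∈ layer G ⊓ centralizer (K : Set G), k * l = l * k := by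
    intro K k hk l hl
    exact mem_centralizer_iff.1 hl.2 k hk
  have hoddK : ∀ K : Subgroup G, IsComponent K → ∀ z ∈ K, z ∈ layer G ⊓ centralizer (K : Set G) → z * z = 1 → z = 1 := by
    intro K hK z hzK hzL hz2
    refine hZL z hzL.1 ?_ hz2
    rw [mem_centralizer_iff]
    intro l hl
    have h1 : layer G ≤ centralizer ({z} : Set G) := by
      refine (hsup K hK).trans (sup_le ?_ ?_)
      · intro k hk
        rw [mem_centralizer_singleton_iff]
        exact hcommK K k hk z hzL
      · intro k hk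
        rw [mem_centralizer_singleton_iff]
        exact (hcommK K z hzK k hk).symm
    exact mem_centralizer_singleton_iff.1 (h1 hl)
  obtain ⟨e, heE, heo, heD, heQ⟩ := hx _ hLn hDE
  -- the parts of elements of `D`
  have hparts : ∀ K : Subgroup G, IsComponent K → ∀ d ∈ D, ∃ k ∈ K, ∃ l ∈ layer G ⊓ centralizer (K : Set G),
      k * l = d ∧ k ∈ D ∧ l ∈ D := by
    intro K hK d hd
    obtain ⟨k, hk, l, hl, hkl, hk2, hl2⟩ := split_inv (hcommK K) (hoddK K hK) (hsup K hK (hDE hd)) (h8.inv d hd)
    have hkD : k ∈ D := by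
      have hke : k * e = e * k := comm_of_split (hcommK K) (hoddK K hK) hk hl hk2 (hsup K hK heE)
        (by rw [hkl]; exact heD d hd)
      have hkD : ∀ d' ∈ D, k * d' = d' * k := by
        intro d' hd'
        refine comm_of_split (hcommK K) (hoddK K hK) hk hl hk2 (hsup K hK (hDE hd')) ?_
        rw [hkl]
        -- `D` is abelian
        have h1 := h8.inv _ (D.mul_mem hd hd')
        have h2 := h8.inv _ hd
        have h3 := h8.inv _ hd'
        have h4 : d⁻¹ = d := inv_eq_of_mul_eq_one_left h2
        have h5 : d'⁻¹ = d' := inv_eq_of_mul_eq_one_left h3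
        have h6 : (d * d')⁻¹ = d * d' := inv_eq_of_mul_eq_one_left h1
        rw [mul_inv_rev, h4, h5] at h6
        exact h6.symm
      have hz2 : IsPGroup 2 (zpowers k) := by
        refine IsPGroup.of_card_dvd_pow (n := 1) ?_
        rw [Nat.card_zpowers, pow_one]
        exact orderOf_dvd_of_pow_eq_one (by rw [pow_two, hk2])
      have hnorm : zpowers k ≤ normalizer (D : Set G) := by
        rw [zpowers_le, mem_normalizer_iff]
        intro d'
        constructor
        · intro hd'
          rw [hkD d' hd', mul_inv_cancel_right]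
          exact hd'
        · intro hd'
          have h1 := hkD _ hd'
          have h4 : k * (k * d' * k⁻¹) = k * d' := by rw [h1, inv_mul_cancel_right]
          rw [mul_left_cancel h4] at hd'
          exact hd'
      have hQ2 : IsPGroup 2 (zpowers k ⊔ D : Subgroup G) := hz2.to_sup_of_normal_right' hD2 hnorm
      obtain ⟨c, hcE, hce, hcQ⟩ := heQ (zpowers k ⊔ D) (sup_le (by rw [zpowers_le]; exact component_le_layer hK hk) hDE)
        hQ2 (by
          have h1 : (zpowers k ⊔ D : Subgroup G) ≤ centralizer ({e} : Set G) := by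
            refine sup_le ?_ ?_
            · rw [zpowers_le, mem_centralizer_singleton_iff]
              exact hke
            · intro d' hd'
              rw [mem_centralizer_singleton_iff]
              exact heD d' hd'
          intro q hq
          exact mem_centralizer_singleton_iff.1 (h1 hq))
      have hle : D ≤ (zpowers k ⊔ D : Subgroup G) := le_sup_right
      have hmap : (zpowers k ⊔ D : Subgroup G).map (MulAut.conj c).toMonoidHom ≤ D := by
        rintro _ ⟨q, hq, rfl⟩
        exact hcQ q hq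
      have hcard : Nat.card (zpowers k ⊔ D : Subgroup G) ≤ Nat.card D := by
        have h1 : Nat.card ((zpowers k ⊔ D : Subgroup G).map (MulAut.conj c).toMonoidHom) =
            Nat.card (zpowers k ⊔ D : Subgroup G) :=
          Subgroup.card_map_of_injective (MulAut.conj c).injective
        rw [← h1]
        exact Nat.card_le_card_of_injective _ (inclusion_injective hmap)
      have heq : D = (zpowers k ⊔ D : Subgroup G) := eq_of_le_of_card_ge hle hcard
      rw [heq]
      exact (le_sup_left : zpowers k ≤ zpowers k ⊔ D) (mem_zpowers k)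
    refine ⟨k, hk, l, hl, hkl, hkD, ?_⟩
    have : l = k⁻¹ * d := by rw [← hkl, inv_mul_cancel_left]
    rw [this]
    exact D.mul_mem (D.inv_mem hkD) hd
  -- a component meeting `D`
  have hex : ∃ K : Subgroup G, IsComponent K ∧ ∃ a ∈ D, a ∈ K ∧ a ≠ 1 := by
    by_contra hcon
    push Not at hcon
    apply hd₀1
    refine hZL d₀ (hDE hd₀) ?_ (h8.inv d₀ hd₀)
    rw [mem_centralizer_iff]
    have h1 : layer G ≤ centralizer ({d₀} : Set G) := by
      rw [layer_le_iff]
      intro K hK
      obtain ⟨k, hk, l, hl, hkl, hkD, hlD⟩ := hparts K hK d₀ hd₀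
      have hk1 : k = 1 := hcon K hK k hkD hk
      rw [hk1, one_mul] at hkl
      intro x hx
      rw [mem_centralizer_singleton_iff, ← hkl]
      exact hcommK K x hx l hl
    intro l hl
    exact mem_centralizer_singleton_iff.1 (h1 hl)
  obtain ⟨K, hK, a, haD, haK, ha1⟩ := hex
  have ha2 := h8.inv a haD
  have hyk : ∀ j : ℕ, IsComponent (K.map (MulAut.conj (y ^ j)).toMonoidHom) := fun j => isComponent_conj _ hK
  have hDK : D ≤ K := by
    intro d hd
    obtain ⟨k, hk, l, hl, hkl, hkD, hlD⟩ := hparts K hK d hd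
    by_cases hl1 : l = 1
    · rw [hl1, mul_one] at hkl
      rw [← hkl]
      exact hk
    · exfalso
      -- `a l` lies in a component
      have hal1 : a * l ≠ 1 := by
        intro h
        apply ha1
        refine hoddK K hK a haK ?_ ha2
        rw [mul_eq_one_iff_eq_inv] at h
        rw [h]
        exact (layer G ⊓ centralizer (K : Set G)).inv_mem hl
      obtain ⟨j, hj⟩ := hy.trans a haD ha1 (a * l) (D.mul_mem haD hlD) hal1
      have hmem : a * l ∈ K.map (MulAut.conj (y ^ j)).toMonoidHom := ⟨a, haK, hj⟩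
      by_cases hKj : K.map (MulAut.conj (y ^ j)).toMonoidHom = K
      · rw [hKj] at hmem
        have hlK : l ∈ K := by
          have := K.mul_mem (K.inv_mem haK) hmem
          rwa [inv_mul_cancel_left] at this
        exact hl1 (hoddK K hK l hlK hl (h8.inv l hlD))
      · have h1 := component_le_centralizer_of_ne (hyk j) hK hKj hmem
        have h2 := component_le_layer (hyk j) hmem
        have h3 : a ∈ layer G ⊓ centralizer (K : Set G) := by
          have := (layer G ⊓ centralizer (K : Set G)).mul_mem ⟨h2, h1⟩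
            ((layer G ⊓ centralizer (K : Set G)).inv_mem hl)
          rwa [mul_inv_cancel_right] at this
        exact ha1 (hoddK K hK a haK h3 ha2)
  -- `K` is normal
  have hKn : K.Normal := by
    refine ⟨fun k hk g => ?_⟩
    have hg : K.map (MulAut.conj g).toMonoidHom = K := by
      by_contra hne
      obtain ⟨n, hn, hnD⟩ := hfr _ hLn hDE g
      have h1 : g * d₀ * g⁻¹ ∈ K.map (MulAut.conj g).toMonoidHom := ⟨d₀, hDK hd₀, rfl⟩
      have h2 : g * d₀ * g⁻¹ ∈ K := by
        have h3 := hDK (hnD d₀ hd₀)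
        have h4 := layer_le_normalizer_component hK hn
        exact (mem_normalizer_iff.1 h4 _).2 h3
      have h3 := component_le_centralizer_of_ne (isComponent_conj g hK) hK hne h1
      have h4 := component_le_layer (isComponent_conj g hK) h1
      have h5 : g * d₀ * g⁻¹ = 1 := hoddK K hK _ h2 ⟨h4, h3⟩ (by
        have := h8.inv d₀ hd₀
        calc g * d₀ * g⁻¹ * (g * d₀ * g⁻¹) = g * (d₀ * d₀) * g⁻¹ := by group
          _ = 1 := by rw [this]; group)
      apply hd₀1
      have h6 : d₀ = g⁻¹ * (g * d₀ * g⁻¹) * g := by group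
      rw [h6, h5]
      group
    rw [← hg]
    exact ⟨k, hk, rfl⟩
  refine ⟨K, hKn, hK.2, hDK, ?_, ?_⟩
  · rw [← Nat.not_even_iff_odd]
    intro hev
    obtain ⟨z, hz⟩ := exists_prime_orderOf_dvd_card' 2 (even_iff_two_dvd.1 hev)
    have hz2 : z * z = 1 := by
      rw [← pow_two, ← hz, pow_orderOf_eq_one]
    have hz3 : (((z : K) : G)) = 1 := by
      have hcen : (((z : K) : G)) ∈ centralizer (K : Set G) := by
        rw [mem_centralizer_iff]
        intro k hk
        have h1 := mem_center_iff.1 z.2 ⟨k, hk⟩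
        exact congrArg Subtype.val h1
      refine hoddK K hK _ (z : K).2 ⟨component_le_layer hK (z : K).2, hcen⟩ ?_
      · have h1 := congrArg (fun w : center K => ((w : K) : G)) hz2
        simpa using h1
    have hz4 : z = 1 := by
      apply Subtype.ext
      apply Subtype.ext
      exact hz3
    rw [hz4, orderOf_one] at hz
    omega
  · rcases hN (centralizer (K : Set G)) inferInstance with h | h
    · exact h
    · exfalso
      apply hd₀1
      exact hoddK K hK d₀ (hDK hd₀) ⟨hDE hd₀, h hd₀⟩ (h8.inv d₀ hd₀)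

end

end Cfsg.Agent.H527.KKL
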